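import Cfsg.Agent.Lib.Helper25.FB.Defs
import Cfsg.Agent.S1958

/-!
# S3819 farm (helper25), leaf L04: the solvable Goldschmidt lemma for a `p`-ELEMENT (order `p^k`)

This is `Cfsg.Agent.S1958.key` (file `Cfsg/Agent/S1958.lean`, theorems `special` and `key`) with the hypothesis
`x ^ p = 1` replaced by `IsPGroup p (Subgroup.zpowers x)`. RECIPE: copy the proofs of `special` and `key` from
`S1958.lean` (about 110 lines) under fresh names in a sub-namespace `...FB.L04`; the hypothesis `hx : x ^ p = 1` is used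
ONLY (a) through `isPGroup_zpowers hx : IsPGroup p (zpowers x)` (now the hypothesis itself) and (b) in `key` to get
`hxq : (π x) ^ p = 1` for the image - replace (b) by: the image of a `p`-group is a `p`-group
(`IsPGroup.map` + `MonoidHom.map_zpowers`), i.e. `IsPGroup p (zpowers (π x))`.
-/

set_option autoImplicit false

namespace Cfsg.Agent.Lib.Helper25.FB

open Cfsg

namespace L04

open Subgroup

variable {H : Type*} [Group H] [Finite H] {p : ℕ} [Fact p.Prime]

theorem special' [Group.IsSolvable H] (hO : Cfsg.pPrimeCore p H = ⊥) (x : H)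
    (hx : IsPGroup p (zpowers x))
    (D : Subgroup H) (hDc : D ≤ centralizer {x})
    (hDn : centralizer {x} ≤ normalizer (D : Set H))
    (hDp : (Nat.card D).Coprime p) : D = ⊥ := by
  have hQn : (Cfsg.pCore p H).Normal := inferInstance
  have hQp : IsPGroup p (Cfsg.pCore p H) := Cfsg.Agent.Lib.Helper13.pCore_isPGroup p
  have hDQ : D ⊓ Cfsg.pCore p H = ⊥ := by
    obtain ⟨k, hk⟩ := hQp.exists_card_eq
    apply disjoint_iff.mp
    apply Subgroup.disjoint_of_coprime_natCard
    rw [hk]; exact Nat.Coprime.pow_right k hDp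
  rw [eq_bot_iff]
  intro a ha
  have hax : a * x = x * a := Subgroup.mem_centralizer_singleton_iff.mp (hDc ha)
  have hcent : ∀ u ∈ Cfsg.pCore p H, a * u = u * a := by
    apply Cfsg.Agent.Lib.Helper17.thompson_AxB (B := zpowers x) hx ?_ ?_
      (Nat.card (Cfsg.pCore p H)) (Cfsg.pCore p H) rfl hQp ?_ ?_ ?_
    · exact Nat.Coprime.coprime_dvd_left (Subgroup.orderOf_dvd_natCard D ha) hDp
    · intro b hb
      obtain ⟨i, rfl⟩ := Subgroup.mem_zpowers_iff.mp hb
      exact (Commute.zpow_right hax i)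
    · rw [normalizer_eq_top]; exact Subgroup.mem_top a
    · rw [normalizer_eq_top]; exact le_top
    · intro u hu hub
      have hux : u ∈ centralizer {x} := by
        rw [Subgroup.mem_centralizer_singleton_iff]
        exact (hub x (mem_zpowers x)).symm
      have huN := hDn hux
      have h1 : a * u * a⁻¹ * u⁻¹ ∈ D ⊓ Cfsg.pCore p H := by
        refine mem_inf.mpr ⟨?_, ?_⟩
        · have h2 : u * a⁻¹ * u⁻¹ ∈ D := (mem_normalizer_iff.mp huN a⁻¹).mp (D.inv_mem ha)
          have e : a * u * a⁻¹ * u⁻¹ = a * (u * a⁻¹ * u⁻¹) := by group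
          rw [e]; exact D.mul_mem ha h2
        · exact (Cfsg.pCore p H).mul_mem (hQn.conj_mem u hu a) ((Cfsg.pCore p H).inv_mem hu)
      rw [hDQ, mem_bot] at h1
      have h3 : a * u = (a * u * a⁻¹ * u⁻¹) * (u * a) := by group
      rw [h3, h1, one_mul]
  have haC : a ∈ centralizer (Cfsg.pCore p H : Set H) := by
    rw [mem_centralizer_iff]
    intro u hu
    exact (hcent u hu).symm
  have haQ := Cfsg.Agent.Lib.Helper1.centralizer_pCore_le p hO haC
  have h4 : a ∈ D ⊓ Cfsg.pCore p H := mem_inf.mpr ⟨ha, haQ⟩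
  rwa [hDQ] at h4

theorem key' [Group.IsSolvable H] (x : H) (hx : IsPGroup p (zpowers x))
    (D : Subgroup H) (hDc : D ≤ centralizer {x})
    (hDn : centralizer {x} ≤ normalizer (D : Set H))
    (hDp : (Nat.card D).Coprime p) : D ≤ Cfsg.pPrimeCore p H := by
  have hOq : Cfsg.pPrimeCore p (H ⧸ Cfsg.pPrimeCore p H) = ⊥ :=
    Cfsg.Agent.Lib.Helper10.pPrimeCore_quotient_eq_bot p
  have hNcop : (Nat.card (Cfsg.pPrimeCore p H)).Coprime p :=
    Cfsg.Agent.Lib.Helper1.pPrimeCore_coprime p
  have hp : p.Prime := Fact.out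
  have hzp : IsPGroup p (zpowers x) := hx
  have hcop : Cfsg.Agent.Lib.Helper1.CoprimeAct (zpowers x) (Cfsg.pPrimeCore p H) :=
    { norm := by rw [normalizer_eq_top]; exact le_top
      cop := by
        obtain ⟨k, hk⟩ := hzp.exists_card_eq
        rw [hk]
        exact (Nat.Coprime.pow_right k hNcop).symm
      solv := Or.inl inferInstance }
  have hinf : Cfsg.pPrimeCore p H ⊓ zpowers x = ⊥ := hcop.inf_eq_bot
  set π := QuotientGroup.mk' (Cfsg.pPrimeCore p H) with hπ
  have hπ1 : ∀ g : H, π g = 1 ↔ g ∈ Cfsg.pPrimeCore p H := fun g => QuotientGroup.eq_one_iff g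
  have hxq : IsPGroup p (zpowers (π x)) := by
    have h1 := hx.map π
    rwa [MonoidHom.map_zpowers] at h1
  have hDq : D.map π = ⊥ := by
    apply special' hOq (π x) hxq (D.map π)
    · rintro _ ⟨d, hd, rfl⟩
      rw [mem_centralizer_singleton_iff, ← map_mul, ← map_mul,
        mem_centralizer_singleton_iff.mp (hDc hd)]
    · intro hbar hhbar
      obtain ⟨h, rfl⟩ := QuotientGroup.mk'_surjective (Cfsg.pPrimeCore p H) hbar
      have hc : π h * π x = π x * π h := mem_centralizer_singleton_iff.mp hhbar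
      have hh : ∀ a ∈ zpowers x, h⁻¹ * (a * h * a⁻¹) ∈ Cfsg.pPrimeCore p H := by
        intro a ha
        rw [← hπ1]
        obtain ⟨i, rfl⟩ := mem_zpowers_iff.mp ha
        have hc' : Commute (π h) (π x) := hc
        have h5 := (hc'.zpow_right i).eq
        simp only [map_mul, map_inv, map_zpow]
        rw [← h5]; group
      obtain ⟨u, hu, hcu⟩ := hcop.exists_mul_mem_normalizer h hh
      have hu1 : π u = 1 := (hπ1 u).mpr hu
      have hcC : h * u ∈ centralizer {x} := by
        rw [mem_centralizer_singleton_iff]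
        have h1 : (h * u) * x * (h * u)⁻¹ ∈ zpowers x :=
          (mem_normalizer_iff.mp hcu x).mp (mem_zpowers x)
        have h2 : (h * u) * x * (h * u)⁻¹ * x⁻¹ ∈ Cfsg.pPrimeCore p H ⊓ zpowers x := by
          refine mem_inf.mpr
            ⟨?_, (zpowers x).mul_mem h1 ((zpowers x).inv_mem (mem_zpowers x))⟩
          rw [← hπ1]
          simp only [map_mul, map_inv, hu1, mul_one]
          rw [hc]; group
        rw [hinf, mem_bot] at h2
        have h3 : h * u * x = ((h * u) * x * (h * u)⁻¹ * x⁻¹) * (x * (h * u)) := by group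
        rw [h3, h2, one_mul]
      have hπhu : π (h * u) = π h := by rw [map_mul, hu1, mul_one]
      rw [← hπhu]
      exact Subgroup.le_normalizer_map π (mem_map_of_mem π (hDn hcC))
    · exact Nat.Coprime.coprime_dvd_left (Subgroup.card_map_dvd D π) hDp
  intro d hd
  have h6 : π d ∈ D.map π := mem_map_of_mem π hd
  rw [hDq, mem_bot] at h6
  exact (hπ1 d).mp h6

end L04

/-- solvable `L`, `x` a `p`-element, `D` a `p'`-subgroup of `C_L(x)` normalized by `C_L(x)`: then `D ≤ O_{p'}(L)` -/
theorem goldschmidt_pElement {L : Type*} [Group L] [Finite L] [Group.IsSolvable L] {p : ℕ} [Fact p.Prime]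
    (x : L) (hx : IsPGroup p (Subgroup.zpowers x)) (D : Subgroup L)
    (hDc : D ≤ Subgroup.centralizer {x})
    (hDn : Subgroup.centralizer {x} ≤ Subgroup.normalizer (D : Set L))
    (hDp : (Nat.card D).Coprime p) : D ≤ Cfsg.pPrimeCore p L := by
  exact L04.key' x hx D hDc hDn hDp

end Cfsg.Agent.Lib.Helper25.FB
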