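import Mathlib
import Cfsg.Prelude.Def_Solvable

/-!
# S3819 farm (helper25): shared definition

`oq q X` is `O_{q'}(X)` for a subgroup `X` of `G`, as a subgroup of `G`.
-/

set_option autoImplicit false

namespace Cfsg.Agent.Lib.Helper25.FB

open Cfsg

/-- `O_{q'}(X)` as a subgroup of the ambient group. -/
def oq {G : Type*} [Group G] (q : ℕ) (X : Subgroup G) : Subgroup G :=
  (pPrimeCore q ↥X).map X.subtype

end Cfsg.Agent.Lib.Helper25.FB
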