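import Cfsg.Agent.Lib.Helper25.FB.Defs
import Cfsg.Agent.Lib.Helper1.Cores

/-!
# S3819 farm (helper25), leaf L01: basic facts on `oq q X = O_{q'}(X)` (as a subgroup of `G`)

Library: `Cfsg.Agent.Lib.Helper1.pPrimeCore_normal`, `pPrimeCore_coprime`, `le_pPrimeCore`
(in `Lib/Helper1/Cores.lean`), `Subgroup.map_subtype_le`, `Subgroup.card_map_of_injective` /
`Nat.card_congr (Subgroup.equivMapOfInjective ..)`. For `le_oq`: `D.subgroupOf X` is normal in `↥X`
(from `hXD`) and has the same cardinality as `D` (`Subgroup.subgroupOfEquivOfLe hDX`), so it lies in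
`pPrimeCore q ↥X`; map back with `Subgroup.map_subgroupOf_eq_of_le`.
-/

set_option autoImplicit false

namespace Cfsg.Agent.Lib.Helper25.FB

open Cfsg

variable {G : Type*} [Group G]

theorem oq_le (q : ℕ) (X : Subgroup G) : oq q X ≤ X := by
  unfold oq
  exact Subgroup.map_subtype_le _

theorem oq_coprime [Finite G] (q : ℕ) (X : Subgroup G) : (Nat.card (oq q X)).Coprime q := by
  unfold oq
  rw [Subgroup.card_map_of_injective X.subtype_injective]
  exact Cfsg.Agent.Lib.Helper1.pPrimeCore_coprime q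

/-- a `q'`-subgroup of `X` normalized by `X` lies in `O_{q'}(X)` -/
theorem le_oq {q : ℕ} {X D : Subgroup G} (hDX : D ≤ X)
    (hXD : X ≤ Subgroup.normalizer (D : Set G)) (hD : (Nat.card D).Coprime q) : D ≤ oq q X := by
  have hn : (D.subgroupOf X).Normal := by
    constructor
    intro n hn g
    rw [Subgroup.mem_subgroupOf] at hn ⊢
    have := (Subgroup.mem_normalizer_iff.mp (hXD g.2) (n : G)).mp hn
    simpa using this
  have hc : (Nat.card (D.subgroupOf X)).Coprime q := by
    rw [Nat.card_congr (Subgroup.subgroupOfEquivOfLe hDX).toEquiv]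
    exact hD
  have h1 : D.subgroupOf X ≤ pPrimeCore q ↥X := Cfsg.Agent.Lib.Helper1.le_pPrimeCore hn hc
  have h2 := Subgroup.map_mono (f := X.subtype) h1
  rw [Subgroup.map_subgroupOf_eq_of_le hDX] at h2
  exact h2

end Cfsg.Agent.Lib.Helper25.FB
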