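import Cfsg.Agent.Lib.Helper25.FB.Defs
import Cfsg.Agent.Lib.Helper1.Cores
import Cfsg.Agent.Lib.Helper1.Frattini

/-!
# S3819 farm (helper25), leaf L02: `O_{q'}(X)` is normalized by everything that normalizes `X`

`pPrimeCore q ↥X` is characteristic in `↥X` (`Cfsg.Agent.Lib.Helper1.pPrimeCore_characteristic`).
For `g ∈ N_G(X)` conjugation by `g` restricts to an automorphism of `↥X`
(`MulAut.conjNormal`-style, or build the `MulEquiv ↥X ≃* ↥X` by hand from `Subgroup.mem_normalizer_iff`);
it fixes `pPrimeCore q ↥X`, so `g * y * g⁻¹ ∈ oq q X` for `y ∈ oq q X`.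
Alternative without `Characteristic`: the conjugate of `oq q X` by `g` is again a `q'`-subgroup of `X`
normalized by `X`, hence `≤ oq q X` by `le_oq` (L01) - then use finiteness/cardinality or apply it to `g⁻¹`
to get the iff in `Subgroup.mem_normalizer_iff`.
-/

set_option autoImplicit false

namespace Cfsg.Agent.Lib.Helper25.FB

open Cfsg

variable {G : Type*} [Group G]

theorem normalizer_le_normalizer_oq [Finite G] (q : ℕ) (X : Subgroup G) :
    Subgroup.normalizer (X : Set G) ≤ Subgroup.normalizer ((oq q X : Subgroup G) : Set G) := by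
  have : (pPrimeCore q ↥X).Characteristic :=
    Cfsg.Agent.Lib.Helper1.pPrimeCore_characteristic (G := ↥X) q
  exact Cfsg.Agent.Lib.Helper1.normalizer_le_normalizer_map_of_characteristic X (pPrimeCore q ↥X)

end Cfsg.Agent.Lib.Helper25.FB
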