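import Cfsg.Agent.Lib.Helper25.FB.L01
import Cfsg.Agent.Lib.Helper25.FB.L02

/-!
# S3819 farm (helper25), leaf L03: `O_{q'}` and normal subgroups

`oq_mono_of_normal`: `X ⊴ Z` (i.e. `X ≤ Z ≤ N_G(X)`) gives `O_{q'}(X) ≤ O_{q'}(Z)`: `oq q X ≤ X ≤ Z`, it is
normalized by `Z` (L02, since `Z ≤ N_G(X)`), and is a `q'`-group (L01) - apply `le_oq` (L01).
`oq_inf_le`: `O_{q'}(Z) ∩ X ≤ O_{q'}(X)` for `X ⊴ Z`: `D := oq q Z ⊓ X ≤ X`; `X` normalizes `oq q Z` (L02 with
`Z ≤ N_G(Z)`, `X ≤ Z`) and itself, so `X ≤ N_G(D)` (`Subgroup.inf_normalizer_le_normalizer_inf` or by hand);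
`Nat.card D` divides `Nat.card (oq q Z)` (`Subgroup.card_dvd_of_le inf_le_left`), so it is coprime to `q`.
-/

set_option autoImplicit false

namespace Cfsg.Agent.Lib.Helper25.FB

open Cfsg

variable {G : Type*} [Group G]

theorem oq_mono_of_normal [Finite G] (q : ℕ) {X Z : Subgroup G} (hXZ : X ≤ Z)
    (hZX : Z ≤ Subgroup.normalizer (X : Set G)) : oq q X ≤ oq q Z := by
  apply le_oq ((oq_le q X).trans hXZ) (hZX.trans (normalizer_le_normalizer_oq q X)) (oq_coprime q X)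

theorem oq_inf_le [Finite G] (q : ℕ) {X Z : Subgroup G} (hXZ : X ≤ Z)
    (hZX : Z ≤ Subgroup.normalizer (X : Set G)) : oq q Z ⊓ X ≤ oq q X := by
  apply le_oq inf_le_right
  · -- `X` normalizes `oq q Z ⊓ X`
    have h1 : X ≤ Subgroup.normalizer ((oq q Z : Subgroup G) : Set G) :=
      (hXZ.trans Subgroup.le_normalizer).trans (normalizer_le_normalizer_oq q Z)
    intro x hx
    rw [Subgroup.mem_normalizer_iff]
    intro n
    have h2 := Subgroup.mem_normalizer_iff.mp (h1 hx) n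
    have h3 := Subgroup.mem_normalizer_iff.mp (Subgroup.le_normalizer (H := X) hx) n
    rw [Subgroup.mem_inf, Subgroup.mem_inf, h2, h3]
  · exact Nat.Coprime.coprime_dvd_left (Subgroup.card_dvd_of_le inf_le_left) (oq_coprime q Z)

end Cfsg.Agent.Lib.Helper25.FB
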