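import Cfsg.Agent.Lib.Helper25.FB.Defs
import Cfsg.Agent.Lib.Helper9.Signalizer

/-!
# S3819 farm (helper25), leaf L05: `K⟨x⟩⟨z⟩` is solvable

`K` solvable, `x`, `z` commuting elements normalizing `K`. `L := K ⊔ zpowers x ⊔ zpowers z`. `K.subgroupOf L` is normal
in `↥L` (each generator of `L` normalizes `K`; `Subgroup.sup_le`/`Subgroup.zpowers_le` into `normalizer K`), it is
solvable (isomorphic to `↥K`: `Subgroup.subgroupOfEquivOfLe`), and the quotient `↥L ⧸ K.subgroupOf L` is abelian,
being generated by the images of the commuting elements `x`, `z` (e.g. show `commutator ↥L ≤ K.subgroupOf L`: the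
closure of `K ∪ {x, z}` is `L`, and modulo `K` ... ; or: `M := zpowers x ⊔ zpowers z` is abelian hence solvable,
`L = K ⊔ M`, and use `solvable_of_ker_le_range`/`solvable_of_solvable_injective` with `↥L ⧸ _ ≃ M ⧸ _`
(second isomorphism theorem `QuotientGroup.quotientInfEquivProdNormalQuotient`)). Mathlib:
`solvable_of_ker_le_range`, `isSolvable_of_comm`, `solvable_quotient_of_solvable`.
-/

set_option autoImplicit false

namespace Cfsg.Agent.Lib.Helper25.FB

open Cfsg

variable {G : Type*} [Group G]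

theorem isSolvable_sup_zpowers (K : Subgroup G) (hK : Group.IsSolvable ↥K) (x z : G) (hxz : x * z = z * x)
    (hx : x ∈ Subgroup.normalizer (K : Set G)) (hz : z ∈ Subgroup.normalizer (K : Set G)) :
    Group.IsSolvable ↥(K ⊔ Subgroup.zpowers x ⊔ Subgroup.zpowers z) := by
  have hsol : ∀ g : G, Group.IsSolvable ↥(Subgroup.zpowers g) := by
    intro g
    apply Group.isSolvable_of_comm
    rintro ⟨a, ha⟩ ⟨b, hb⟩
    apply Subtype.ext
    obtain ⟨m, rfl⟩ := Subgroup.mem_zpowers_iff.1 ha
    obtain ⟨n, rfl⟩ := Subgroup.mem_zpowers_iff.1 hb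
    show g ^ m * g ^ n = g ^ n * g ^ m
    rw [← zpow_add, ← zpow_add, add_comm]
  have hsx : Group.IsSolvable ↥(Subgroup.zpowers x) := hsol x
  have hsz : Group.IsSolvable ↥(Subgroup.zpowers z) := hsol z
  have h1 : Group.IsSolvable ↥(K ⊔ Subgroup.zpowers x) :=
    Cfsg.Agent.Lib.Helper9.isSolvable_sup_of_le_normalizer hK hsx (Subgroup.zpowers_le.2 hx)
  have hzx : z ∈ Subgroup.normalizer ((Subgroup.zpowers x : Subgroup G) : Set G) := by
    apply Subgroup.centralizer_le_normalizer
    rw [Subgroup.mem_centralizer_iff]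
    intro h hh
    obtain ⟨k, rfl⟩ := Subgroup.mem_zpowers_iff.1 hh
    exact ((show Commute x z from hxz).zpow_left k).eq
  have hzn : z ∈ Subgroup.normalizer ((K ⊔ Subgroup.zpowers x : Subgroup G) : Set G) := by
    rw [← Cfsg.Agent.Lib.Helper1.conj_smul_eq_self_iff_mem_normalizer, Subgroup.smul_sup,
      Cfsg.Agent.Lib.Helper1.conj_smul_eq_self_iff_mem_normalizer.2 hz,
      Cfsg.Agent.Lib.Helper1.conj_smul_eq_self_iff_mem_normalizer.2 hzx]
  exact Cfsg.Agent.Lib.Helper9.isSolvable_sup_of_le_normalizer h1 hsz (Subgroup.zpowers_le.2 hzn)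

end Cfsg.Agent.Lib.Helper25.FB
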