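import Cfsg.Agent.Lib.Helper25.FB.L01
import Cfsg.Agent.Lib.Helper25.FB.L04

/-!
# S3819 farm (helper25), leaf L06: Goldschmidt inside a solvable subgroup `L` of `G`

Apply `goldschmidt_pElement` (L04) in the group `↥L` to the element `⟨z, hzL⟩` and `D := Y.subgroupOf L`
(cardinality: `Nat.card (Y.subgroupOf L)` divides `Nat.card Y`, e.g. via `Subgroup.subgroupOf` ≃ `↥(Y ⊓ L)` and
`Subgroup.card_dvd_of_le`). `zpowers ⟨z,hzL⟩` is a `q`-group because `zpowers z` is (`Subgroup.zpowers` under the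
injective `L.subtype`; `IsPGroup.of_injective`/`IsPGroup.comap_of_injective`). Then
`Y ⊓ L = (Y.subgroupOf L).map L.subtype ≤ (pPrimeCore q ↥L).map L.subtype = oq q L` (`Subgroup.map_subgroupOf_eq_of_le`,
`Subgroup.subgroupOf_map_subtype`).
-/

set_option autoImplicit false

namespace Cfsg.Agent.Lib.Helper25.FB

open Cfsg

variable {G : Type*} [Group G]

theorem inf_le_oq_of_solvable [Finite G] {q : ℕ} [Fact q.Prime] (L : Subgroup G) (hL : Group.IsSolvable ↥L)
    (z : G) (hzL : z ∈ L) (hz : IsPGroup q (Subgroup.zpowers z)) (Y : Subgroup G)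
    (hYz : Y ≤ Subgroup.centralizer {z})
    (hYn : ∀ c ∈ L, c ∈ Subgroup.centralizer {z} → c ∈ Subgroup.normalizer (Y : Set G))
    (hYq : (Nat.card Y).Coprime q) : Y ⊓ L ≤ oq q L := by
  have := hL
  -- the `q`-element of `↥L`
  have hx : IsPGroup q (Subgroup.zpowers (⟨z, hzL⟩ : ↥L)) := by
    rintro ⟨y, hy⟩
    obtain ⟨n, rfl⟩ := Subgroup.mem_zpowers_iff.1 hy
    obtain ⟨k, hk⟩ := hz ⟨z ^ n, Subgroup.zpow_mem_zpowers z n⟩
    refine ⟨k, ?_⟩
    have hk' : (z ^ n) ^ q ^ k = 1 := by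
      have := congrArg Subtype.val hk
      simpa using this
    apply Subtype.ext
    apply Subtype.ext
    simpa using hk'
  have hDc : Y.subgroupOf L ≤ Subgroup.centralizer {(⟨z, hzL⟩ : ↥L)} := by
    intro d hd
    rw [Subgroup.mem_subgroupOf] at hd
    rw [Subgroup.mem_centralizer_iff]
    intro h hh
    rw [Set.mem_singleton_iff] at hh
    subst hh
    apply Subtype.ext
    have := hYz hd
    rw [Subgroup.mem_centralizer_iff] at this
    exact this z (Set.mem_singleton z)
  have hDn : Subgroup.centralizer {(⟨z, hzL⟩ : ↥L)} ≤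
      Subgroup.normalizer ((Y.subgroupOf L : Subgroup ↥L) : Set ↥L) := by
    intro c hc
    have hc' : (c : G) ∈ Subgroup.centralizer {z} := by
      rw [Subgroup.mem_centralizer_iff] at hc ⊢
      intro h hh
      rw [Set.mem_singleton_iff] at hh
      subst hh
      have := hc ⟨h, hzL⟩ (Set.mem_singleton _)
      exact congrArg Subtype.val this
    have hcn := hYn c c.2 hc'
    rw [Subgroup.mem_normalizer_iff] at hcn ⊢
    intro h
    rw [Subgroup.mem_subgroupOf, Subgroup.mem_subgroupOf]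
    exact hcn h
  have hDp : (Nat.card (Y.subgroupOf L)).Coprime q := by
    have h1 : Nat.card (Y.subgroupOf L) = Nat.card (Y ⊓ L : Subgroup G) := by
      rw [← Subgroup.inf_subgroupOf_right]
      exact Nat.card_congr (Subgroup.subgroupOfEquivOfLe (inf_le_right : Y ⊓ L ≤ L)).toEquiv
    rw [h1]
    exact Nat.Coprime.coprime_dvd_left (Subgroup.card_dvd_of_le inf_le_left) hYq
  have key := goldschmidt_pElement (⟨z, hzL⟩ : ↥L) hx (Y.subgroupOf L) hDc hDn hDp
  intro y hy
  have h1 : (⟨y, hy.2⟩ : ↥L) ∈ Y.subgroupOf L := by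
    rw [Subgroup.mem_subgroupOf]; exact hy.1
  have h2 := key h1
  unfold oq
  exact ⟨⟨y, hy.2⟩, h2, rfl⟩

end Cfsg.Agent.Lib.Helper25.FB
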