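import Cfsg.Agent.Lib.Helper25.FB.L02
import Cfsg.Agent.Lib.Helper25.FB.L03
import Cfsg.Agent.Lib.Helper25.FB.L05
import Cfsg.Agent.Lib.Helper25.FB.L06
import Cfsg.Agent.Lib.Helper9.FBL07

/-!
# S3819 farm (helper25), leaf L07: `[Y, K] ≤ O_{q'}(K)` and `Y ∩ K ≤ O_{q'}(K)`

`K` solvable, normalized by `Y` and `z`; `z` a `q`-element; `Y` a `q'`-subgroup of `C_G(z)`; `K, Y, z` inside `Hs` and
`Y` normalized by `C_{Hs}(z)`.  For `x ∈ Y` put `L := K ⊔ zpowers x ⊔ zpowers z`: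
* `L` is solvable (L05; `x * z = z * x` from `hYz`), `L ≤ Hs`, `z ∈ L`, `x ∈ L`, `K ≤ L`, `L ≤ N_G(K)`;
* L06 (`inf_le_oq_of_solvable L _ z _ hz Y hYz _ hYq`, the hypothesis `hYn` of L06 from ours via `L ≤ Hs`) gives
  `x ∈ oq q L`;
* `oq q L` is normalized by `L` (L02 `normalizer_le_normalizer_oq` and `Subgroup.le_normalizer`), so for `k ∈ K ≤ L`:
  `⁅x,k⁆ = x * (k * x⁻¹ * k⁻¹) ∈ oq q L`; also `⁅x,k⁆ = (x * k * x⁻¹) * k⁻¹ ∈ K` as `x` normalizes `K`;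
* L03 `oq_inf_le q (K ≤ L) (L ≤ N_G(K))` : `oq q L ⊓ K ≤ oq q K`.
The second claim is the same with `x ∈ Y ⊓ K`: `x ∈ oq q L ⊓ K ≤ oq q K`.
-/

set_option autoImplicit false

namespace Cfsg.Agent.Lib.Helper25.FB

open Cfsg
open scoped commutatorElement

variable {G : Type*} [Group G]

theorem commutator_mem_oq [Finite G] {q : ℕ} [Fact q.Prime] (K : Subgroup G) (hK : Group.IsSolvable ↥K)
    (Hs : Subgroup G) (hKH : K ≤ Hs) (z : G) (hzH : z ∈ Hs) (hz : IsPGroup q (Subgroup.zpowers z))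
    (hzK : z ∈ Subgroup.normalizer (K : Set G))
    (Y : Subgroup G) (hYH : Y ≤ Hs) (hYz : Y ≤ Subgroup.centralizer {z})
    (hYK : Y ≤ Subgroup.normalizer (K : Set G))
    (hYn : Hs ⊓ Subgroup.centralizer {z} ≤ Subgroup.normalizer (Y : Set G))
    (hYq : (Nat.card Y).Coprime q) :
    (∀ x ∈ Y, ∀ k ∈ K, ⁅x, k⁆ ∈ oq q K) ∧ Y ⊓ K ≤ oq q K := by
  exact Cfsg.Agent.Lib.Helper9.FBL07.commutator_mem_oq K hK Hs hKH z hzH hz hzK Y hYH hYz hYK hYn hYq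

end Cfsg.Agent.Lib.Helper25.FB
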