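import Cfsg.Agent.Lib.Helper25.FB.L01
import Cfsg.Agent.Lib.Helper25.FB.L02
import Cfsg.Agent.Lib.Helper1.Coprime

/-!
# S3819 farm (helper25), leaf L08: `P` normalizes `Y = O_{q'}(C_H(z))` and `[Y, P] ≤ Y ∩ [H, P]`

`P` normalizes `H` and centralizes `z`, hence normalizes `H ⊓ centralizer {z}`
(`Subgroup.inf_normalizer_le_normalizer_inf`; `a` commuting with `z` normalizes `centralizer {z}`), hence normalizes
its `oq` (L02).  Then `⁅Y,P⁆ ≤ Y` (`Cfsg.Agent.Lib.Helper1.commutator_le_of_le_normalizer`) and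
`⁅Y,P⁆ ≤ ⁅H,P⁆` (`Subgroup.commutator_mono`, `Y ≤ H` by L01 `oq_le` and `inf_le_left`).
-/

set_option autoImplicit false

namespace Cfsg.Agent.Lib.Helper25.FB

open Cfsg

variable {G : Type*} [Group G]

theorem normalizer_and_commutator_le [Finite G] (q : ℕ) (H P : Subgroup G) (z : G)
    (hPH : P ≤ Subgroup.normalizer (H : Set G)) (hzP : z ∈ Subgroup.centralizer (P : Set G)) :
    P ≤ Subgroup.normalizer ((oq q (H ⊓ Subgroup.centralizer {z}) : Subgroup G) : Set G) ∧
      ⁅oq q (H ⊓ Subgroup.centralizer {z}), P⁆ ≤ oq q (H ⊓ Subgroup.centralizer {z}) ⊓ ⁅H, P⁆ := by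
  open Cfsg.Agent.Lib.Helper1 in
  have hPC : P ≤ Subgroup.normalizer ((Subgroup.centralizer ({z} : Set G) : Subgroup G) : Set G) := by
    apply le_normalizer_of_forall_conj_mem
    intro x hx n hn
    have hxz : x * z = z * x := (Subgroup.mem_centralizer_iff.mp hzP) x hx
    have hnz : n * z = z * n := Subgroup.mem_centralizer_singleton_iff.mp hn
    rw [Subgroup.mem_centralizer_singleton_iff]
    have c1 : Commute z x := hxz.symm
    have c2 : Commute z n := hnz.symm
    exact ((c1.mul_right c2).mul_right c1.inv_right).eq.symm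
  have hPX : P ≤ Subgroup.normalizer ((H ⊓ Subgroup.centralizer ({z} : Set G) : Subgroup G) : Set G) :=
    fun a ha => Subgroup.inf_normalizer_le_normalizer_inf ⟨hPH ha, hPC ha⟩
  have hPY : P ≤ Subgroup.normalizer
      ((oq q (H ⊓ Subgroup.centralizer ({z} : Set G)) : Subgroup G) : Set G) :=
    hPX.trans (normalizer_le_normalizer_oq q _)
  refine ⟨hPY, le_inf (commutator_le_of_le_normalizer hPY) ?_⟩
  exact Subgroup.commutator_mono ((oq_le q _).trans inf_le_left) le_rfl

end Cfsg.Agent.Lib.Helper25.FB
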