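import Cfsg.Agent.Lib.Helper25.FB.Defs

/-!
# S3819 farm (helper25), leaf L09: the centralizer of `K/N` in `H` as a normal subgroup

For normal subgroups `K N H` of `G` there is a normal subgroup `C` with `h ∈ C ↔ h ∈ H ∧ ∀ k ∈ K, ⁅h, k⁆ ∈ N`.
Take `π := QuotientGroup.mk' N` and `C := H ⊓ (Subgroup.centralizer ((K.map π : Subgroup (G ⧸ N)) : Set (G ⧸ N))).comap π`:
`K.map π` is normal (`Subgroup.Normal.map` with surjectivity), its centralizer is normal
(`Subgroup.normal_centralizer`? / `Subgroup.centralizer` of a normal subgroup is normal: instance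
`Subgroup.normal_centralizer` or by hand), comap and inf of normals are normal.  Membership:
`π h` commutes with `π k` iff `π ⁅h,k⁆ = 1` iff `⁅h,k⁆ ∈ N` (`QuotientGroup.eq_one_iff`).
-/

set_option autoImplicit false

namespace Cfsg.Agent.Lib.Helper25.FB

open Cfsg
open scoped commutatorElement

variable {G : Type*} [Group G]

theorem exists_cen (K N H : Subgroup G) [K.Normal] [N.Normal] [H.Normal] :
    ∃ C : Subgroup G, C.Normal ∧ ∀ h : G, h ∈ C ↔ (h ∈ H ∧ ∀ k ∈ K, ⁅h, k⁆ ∈ N) := by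
  have hNn : N.Normal := inferInstance
  have hKn : K.Normal := inferInstance
  have hHn : H.Normal := inferInstance
  let C : Subgroup G :=
    { carrier := {h | h ∈ H ∧ ∀ k ∈ K, ⁅h, k⁆ ∈ N}
      one_mem' := ⟨one_mem _, fun k _ => by rw [commutatorElement_one_left]; exact one_mem _⟩
      mul_mem' := by
        rintro a b ⟨ha, ha'⟩ ⟨hb, hb'⟩
        refine ⟨mul_mem ha hb, fun k hk => ?_⟩
        have h1 : ⁅a * b, k⁆ = a * ⁅b, k⁆ * a⁻¹ * ⁅a, k⁆ := by
          simp only [commutatorElement_def]; group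
        rw [h1]
        exact mul_mem (hNn.conj_mem _ (hb' k hk) a) (ha' k hk)
      inv_mem' := by
        rintro a ⟨ha, ha'⟩
        refine ⟨inv_mem ha, fun k hk => ?_⟩
        have h1 : ⁅a⁻¹, k⁆ = a⁻¹ * (⁅a, k⁆)⁻¹ * (a⁻¹)⁻¹ := by
          simp only [commutatorElement_def]; group
        rw [h1]
        exact hNn.conj_mem _ (inv_mem (ha' k hk)) a⁻¹ }
  refine ⟨C, ⟨?_⟩, fun h => Iff.rfl⟩
  rintro n ⟨hn, hn'⟩ g
  refine ⟨hHn.conj_mem n hn g, fun k hk => ?_⟩
  have h1 : ⁅g * n * g⁻¹, k⁆ = g * ⁅n, g⁻¹ * k * (g⁻¹)⁻¹⁆ * g⁻¹ := by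
    simp only [commutatorElement_def]; group
  rw [h1]
  exact hNn.conj_mem _ (hn' _ (hKn.conj_mem k hk g⁻¹)) g

end Cfsg.Agent.Lib.Helper25.FB
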