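import Cfsg.Agent.Lib.Helper25.FB.L01
import Cfsg.Agent.Lib.Helper25.FB.L03
import Cfsg.Agent.Lib.Helper25.FB.L09
import Cfsg.Agent.Lib.Helper1.Coprime

/-!
# S3819 farm (helper25), leaf L10: Part 1, abstract form

`obtain ⟨C, hCn, hC⟩ := exists_cen K N H` (L09).  Facts:
* `C ≤ H`, `Y ≤ C` (`hYH`, `hYK`), `N ≤ C` (`N ≤ K ≤ H` - note `K = ⁅H,P⁆ ≤ H` by
  `Helper1.commutator_le_of_le_normalizer hact.norm` - and `⁅n,k⁆ = n * (k * n⁻¹ * k⁻¹) ∈ N`, `N` normal);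
* `hactC : CoprimeAct P C := hact.mono (C ≤ H) (P ≤ N_G(C))` (`C` normal: `Subgroup.normalizer_eq_top`), so
  `hactC.commutator_sup_centralizer : ⁅C,P⁆ ⊔ (C ⊓ centralizer P) = C`;
* `⁅C,P⁆ ≤ C ⊓ K` (`≤ C` by normality, `≤ ⁅H,P⁆ = K` by `Subgroup.commutator_mono`);
* `T := (C ⊓ W) ⊔ N`.  `C ≤ N_G(T)`: by the decomposition it suffices to treat
  (a) `c ∈ C ⊓ centralizer P`: `c ∈ H ⊓ centralizer P ≤ N_G(W)` (`hWn`), `c` normalizes `C`, `N` (normal) hence `T`;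
  (b) `c ∈ C ⊓ K`: for `w ∈ C ⊓ W`, `c * w * c⁻¹ = ⁅c,w⁆ * w` and `⁅c,w⁆ = ⁅w,c⁆⁻¹ ∈ N` by `hC` (`w ∈ C`, `c ∈ K`); for `n ∈ N`
      use normality; conclude with `Helper1.le_normalizer_of_forall_conj_mem` + closure induction on `T`
      (or `Subgroup.map_sup`).
* `T ≤ C`; `Nat.card T ∣ Nat.card (C ⊓ W) * Nat.card N` (`Helper1.card_sup_dvd_of_normal`), and
  `Nat.card (C ⊓ W) ∣ Nat.card W` (`Subgroup.card_dvd_of_le inf_le_right`): `T` is a `q'`-group.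
* `T ≤ oq q C` (L01 `le_oq`), `oq q C ≤ oq q H` (L03 `oq_mono_of_normal`, `H ≤ N_G(C) = ⊤`), `Y ⊓ W ≤ C ⊓ W ≤ T`.
-/

set_option autoImplicit false

namespace Cfsg.Agent.Lib.Helper25.FB

open Cfsg
open scoped commutatorElement

variable {G : Type*} [Group G]

theorem part_one [Finite G] {q : ℕ} (H P K N W Y : Subgroup G) [H.Normal] [K.Normal] [N.Normal]
    (hact : Cfsg.Agent.Lib.Helper1.CoprimeAct P H) (hK : K = ⁅H, P⁆)
    (hNK : N ≤ K) (hNq : (Nat.card N).Coprime q)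
    (hWle : W ≤ H ⊓ Subgroup.centralizer (P : Set G))
    (hWn : H ⊓ Subgroup.centralizer (P : Set G) ≤ Subgroup.normalizer (W : Set G))
    (hWq : (Nat.card W).Coprime q)
    (hYH : Y ≤ H) (hYK : ∀ y ∈ Y, ∀ k ∈ K, ⁅y, k⁆ ∈ N) :
    Y ⊓ W ≤ oq q H := by
  obtain ⟨C, hCn, hC⟩ := exists_cen K N H
  have := hCn
  have hKH : K ≤ H := by
    rw [hK]; exact Cfsg.Agent.Lib.Helper1.commutator_le_of_le_normalizer hact.norm
  have hCH : C ≤ H := fun c hc => ((hC c).1 hc).1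
  have hYC : Y ≤ C := fun y hy => (hC y).2 ⟨hYH hy, hYK y hy⟩
  have hNC : N ≤ C := by
    intro n hn
    refine (hC n).2 ⟨hKH (hNK hn), fun k _ => ?_⟩
    rw [commutatorElement_def]
    have h1 : n * k * n⁻¹ * k⁻¹ = n * (k * n⁻¹ * k⁻¹) := by group
    rw [h1]
    exact mul_mem hn ((inferInstance : N.Normal).conj_mem _ (inv_mem hn) k)
  have hPC : P ≤ Subgroup.normalizer (C : Set G) := by
    rw [Subgroup.normalizer_eq_top]; exact le_top
  have hactC : Cfsg.Agent.Lib.Helper1.CoprimeAct P C := hact.mono hCH hPC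
  have hdec := hactC.commutator_sup_centralizer
  have hCPK : ⁅C, P⁆ ≤ C ⊓ K := by
    apply le_inf
    · exact Subgroup.commutator_le_left C P
    · rw [hK]; exact Subgroup.commutator_mono hCH le_rfl
  -- the subgroup `T`
  have hTC : (C ⊓ W) ⊔ N ≤ C := sup_le inf_le_left hNC
  have hNT : N ≤ (C ⊓ W) ⊔ N := le_sup_right
  have hWT : C ⊓ W ≤ (C ⊓ W) ⊔ N := le_sup_left
  -- (b) `C ⊓ K` normalises `T`
  have hb : C ⊓ K ≤ Subgroup.normalizer (((C ⊓ W) ⊔ N : Subgroup G) : Set G) := by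
    apply Cfsg.Agent.Lib.Helper1.le_normalizer_of_forall_conj_mem
    intro x hx t ht
    have hle : (C ⊓ W) ⊔ N ≤ ((C ⊓ W) ⊔ N).comap (MulAut.conj x).toMonoidHom := by
      apply sup_le
      · intro w hw
        show (MulAut.conj x) w ∈ (C ⊓ W) ⊔ N
        rw [MulAut.conj_apply]
        have h1 : x * w * x⁻¹ = ⁅w, x⁆⁻¹ * w := by
          rw [commutatorElement_def]; group
        rw [h1]
        have h2 : ⁅w, x⁆ ∈ N := ((hC w).1 hw.1).2 x hx.2
        exact mul_mem (hNT (inv_mem h2)) (hWT hw)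
      · intro n hn
        show (MulAut.conj x) n ∈ (C ⊓ W) ⊔ N
        rw [MulAut.conj_apply]
        exact hNT ((inferInstance : N.Normal).conj_mem n hn x)
    have := hle ht
    simpa [MulAut.conj_apply] using this
  -- (a) `C ⊓ C(P)` normalises `T`
  have ha : C ⊓ Subgroup.centralizer (P : Set G) ≤
      Subgroup.normalizer (((C ⊓ W) ⊔ N : Subgroup G) : Set G) := by
    intro c hc
    have hcW : c ∈ Subgroup.normalizer (W : Set G) := hWn ⟨hCH hc.1, hc.2⟩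
    have hcC : c ∈ Subgroup.normalizer (C : Set G) := by
      rw [Subgroup.normalizer_eq_top]; exact Subgroup.mem_top c
    have hcN : c ∈ Subgroup.normalizer (N : Set G) := by
      rw [Subgroup.normalizer_eq_top]; exact Subgroup.mem_top c
    have hcCW : c ∈ Subgroup.normalizer ((C ⊓ W : Subgroup G) : Set G) := by
      rw [Subgroup.mem_normalizer_iff] at hcW hcC ⊢
      intro x
      exact ⟨fun h => ⟨(hcC x).1 h.1, (hcW x).1 h.2⟩, fun h => ⟨(hcC x).2 h.1, (hcW x).2 h.2⟩⟩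
    exact Subgroup.normalizer_inf_normalizer_le_normalizer_sup _ _ ⟨hcCW, hcN⟩
  have hCT : C ≤ Subgroup.normalizer (((C ⊓ W) ⊔ N : Subgroup G) : Set G) := by
    calc C = ⁅C, P⁆ ⊔ (C ⊓ Subgroup.centralizer (P : Set G)) := hdec.symm
      _ ≤ _ := sup_le (hCPK.trans hb) ha
  -- `T` is a `q'`-group
  have hTq : (Nat.card ((C ⊓ W) ⊔ N : Subgroup G)).Coprime q := by
    have h1 := Cfsg.Agent.Lib.Helper1.card_sup_dvd_of_normal (C ⊓ W) N
    have h2 : Nat.card (C ⊓ W : Subgroup G) ∣ Nat.card W := Subgroup.card_dvd_of_le inf_le_right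
    have h3 : (Nat.card (C ⊓ W : Subgroup G)).Coprime q := Nat.Coprime.coprime_dvd_left h2 hWq
    exact Nat.Coprime.coprime_dvd_left h1 (Nat.Coprime.mul_left h3 hNq)
  have h1 : (C ⊓ W) ⊔ N ≤ oq q C := le_oq hTC hCT hTq
  have hHC : H ≤ Subgroup.normalizer (C : Set G) := by
    rw [Subgroup.normalizer_eq_top]; exact le_top
  have h2 : oq q C ≤ oq q H := oq_mono_of_normal q hCH hHC
  exact (inf_le_inf_right W hYC).trans (hWT.trans (h1.trans h2))

end Cfsg.Agent.Lib.Helper25.FB
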