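import Cfsg.Agent.Lib.Helper25.FB.L07
import Cfsg.Agent.Lib.Helper25.FB.L08
import Cfsg.Agent.Lib.Helper25.FB.L10

/-!
# S3819 farm (helper25): assembly

`G = HP`, `P` acting coprimely on the normal subgroup `H`, `K = [H,P]` solvable, `z` a `q`-element of `C_H(P)`,
`Y = O_{q'}(C_H(z))`, `W = O_{q'}(C_H(P))`: `(Y ∩ W)[Y,P] ≤ O_{q'}(H)`.
-/

set_option autoImplicit false

namespace Cfsg.Agent.Lib.Helper25.FB

open Cfsg
open scoped commutatorElement

theorem main {G : Type*} [Group G] [Finite G] {q : ℕ} [Fact q.Prime] (H P : Subgroup G) [H.Normal]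
    (hact : Cfsg.Agent.Lib.Helper1.CoprimeAct P H) (htop : H ⊔ P = ⊤)
    (hsol : Group.IsSolvable ↥⁅H, P⁆) (z : G) (hzH : z ∈ H)
    (hzP : z ∈ Subgroup.centralizer (P : Set G)) (hz : IsPGroup q (Subgroup.zpowers z)) :
    (oq q (H ⊓ Subgroup.centralizer {z}) ⊓ oq q (H ⊓ Subgroup.centralizer (P : Set G))) ⊔
      ⁅oq q (H ⊓ Subgroup.centralizer {z}), P⁆ ≤ oq q H := by
  -- `K = [H,P]` is normal in `G`
  have hKn : Subgroup.normalizer ((⁅H, P⁆ : Subgroup G) : Set G) = ⊤ := by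
    rw [eq_top_iff, ← htop]
    exact sup_le Cfsg.Agent.Lib.Helper1.le_normalizer_commutator_left
      Cfsg.Agent.Lib.Helper1.le_normalizer_commutator_right
  haveI hKnormal : (⁅H, P⁆ : Subgroup G).Normal := Subgroup.normalizer_eq_top_iff.mp hKn
  have hKH : (⁅H, P⁆ : Subgroup G) ≤ H :=
    Cfsg.Agent.Lib.Helper1.commutator_le_of_le_normalizer hact.norm
  -- `N = O_{q'}(K)` is normal in `G`
  have hNn : Subgroup.normalizer ((oq q ⁅H, P⁆ : Subgroup G) : Set G) = ⊤ := by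
    rw [eq_top_iff, ← hKn]
    exact normalizer_le_normalizer_oq q _
  haveI hNnormal : (oq q ⁅H, P⁆ : Subgroup G).Normal := Subgroup.normalizer_eq_top_iff.mp hNn
  -- facts on `Y`
  have hYle : oq q (H ⊓ Subgroup.centralizer {z}) ≤ H ⊓ Subgroup.centralizer {z} := oq_le q _
  have hYH : oq q (H ⊓ Subgroup.centralizer {z}) ≤ H := hYle.trans inf_le_left
  have hYz : oq q (H ⊓ Subgroup.centralizer {z}) ≤ Subgroup.centralizer {z} := hYle.trans inf_le_right
  have hYq : (Nat.card (oq q (H ⊓ Subgroup.centralizer {z}))).Coprime q := oq_coprime q _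
  have hYn : H ⊓ Subgroup.centralizer {z} ≤
      Subgroup.normalizer ((oq q (H ⊓ Subgroup.centralizer {z}) : Subgroup G) : Set G) :=
    Subgroup.le_normalizer.trans (normalizer_le_normalizer_oq q _)
  obtain ⟨hG1, hG2⟩ := commutator_mem_oq (⁅H, P⁆ : Subgroup G) hsol H hKH z hzH hz
    (by rw [hKn]; exact Subgroup.mem_top z) (oq q (H ⊓ Subgroup.centralizer {z})) hYH hYz
    (by rw [hKn]; exact le_top) hYn hYq
  obtain ⟨_, hcomm⟩ := normalizer_and_commutator_le q H P z hact.norm hzP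
  -- part 2
  have hNH : oq q ⁅H, P⁆ ≤ oq q H := oq_mono_of_normal q hKH (by rw [hKn]; exact le_top)
  have h2 : ⁅oq q (H ⊓ Subgroup.centralizer {z}), P⁆ ≤ oq q H := hcomm.trans (hG2.trans hNH)
  -- part 1
  have hWle : oq q (H ⊓ Subgroup.centralizer (P : Set G)) ≤ H ⊓ Subgroup.centralizer (P : Set G) :=
    oq_le q _
  have hWn : H ⊓ Subgroup.centralizer (P : Set G) ≤
      Subgroup.normalizer ((oq q (H ⊓ Subgroup.centralizer (P : Set G)) : Subgroup G) : Set G) :=
    Subgroup.le_normalizer.trans (normalizer_le_normalizer_oq q _)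
  have hWq : (Nat.card (oq q (H ⊓ Subgroup.centralizer (P : Set G)))).Coprime q := oq_coprime q _
  have h1 : oq q (H ⊓ Subgroup.centralizer {z}) ⊓ oq q (H ⊓ Subgroup.centralizer (P : Set G)) ≤ oq q H :=
    part_one H P ⁅H, P⁆ (oq q ⁅H, P⁆) (oq q (H ⊓ Subgroup.centralizer (P : Set G)))
      (oq q (H ⊓ Subgroup.centralizer {z})) hact rfl (oq_le q _) (oq_coprime q _) hWle hWn hWq hYH hG1
  exact sup_le h1 h2

end Cfsg.Agent.Lib.Helper25.FB
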